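import Mathlib
import Cfsg.Agent.H994.NX.Wie
import Cfsg.Agent.H864.FrobOrder
import Cfsg.Agent.H727.GW.Sp_m3
import Cfsg.Agent.S0336
import Cfsg.Agent.FastGrp
import Cfsg.Agent.Prune
set_option linter.all false

section
prune_inst 0x7f00000000000000000000000000000000000000000000000000000000000000000000000000000000000000000000000000000000000000000000000000000000000000000000000000000000000000003fffffffffffffffffffffffffffbeffbdffffffff

-- part: H397/GW/Num
section
set_option linter.all false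
open scoped Cfsg.Agent.FastGrp

/-!
# Gluck-Wolf: the numerical reductions `num`, `num'` (helper397)
-/

set_option autoImplicit false
set_option exponentiation.threshold 2000

namespace Cfsg.Agent.H397.GW

open Cfsg.Agent.H662.GW

theorem prod_le (s n : ℕ) :
    s ^ (n ^ 2) * ∏ i ∈ Finset.range n, (s ^ (2 * (i + 1)) - 1) ≤ s ^ (2 * n ^ 2 + n) := by
  have h1 : ∏ i ∈ Finset.range n, (s ^ (2 * (i + 1)) - 1) ≤ s ^ (n ^ 2 + n) := by
    induction n with
    | zero => simp
    | succ m ih =>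
      rw [Finset.prod_range_succ]
      calc _ ≤ s ^ (m ^ 2 + m) * s ^ (2 * (m + 1)) := Nat.mul_le_mul ih (Nat.sub_le _ _)
        _ = s ^ ((m + 1) ^ 2 + (m + 1)) := by rw [← pow_add]; congr 1; ring
  calc s ^ (n ^ 2) * ∏ i ∈ Finset.range n, (s ^ (2 * (i + 1)) - 1)
      ≤ s ^ (n ^ 2) * s ^ (n ^ 2 + n) := Nat.mul_le_mul_left _ h1
    _ = s ^ (2 * n ^ 2 + n) := by rw [← pow_add]; congr 1; ring

/-- The counting inequality, freed from `k` and `M`. -/
theorem core {p s n j q M : ℕ} (hp : 1 ≤ p) (hs : 1 ≤ s) (hq : 1 ≤ q)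
    (hM : M ≤ s ^ (n ^ 2) * ∏ i ∈ Finset.range n, (s ^ (2 * (i + 1)) - 1))
    (hI : Ineq p s n j q M) :
    q ^ ((p - 1) * (s ^ n - s ^ (n - j))) ≤ s ^ (p * (2 * n ^ 2 + n + 2 * j)) := by
  obtain ⟨k, hk, hI⟩ := hI
  have hM' := hM.trans (prod_le s n)
  have hR : s ^ (n - j) ≤ s ^ n := Nat.pow_le_pow_right hs (Nat.sub_le _ _)
  obtain ⟨p, rfl⟩ : ∃ p', p = p' + 1 := ⟨p - 1, by omega⟩
  simp only [Nat.add_sub_cancel] at hk ⊢
  set N := s ^ n
  set R := s ^ (n - j)
  have hkN : k ≤ N := by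
    have h1 : (p + 1) * k ≤ (p + 1) * N := by
      calc (p + 1) * k ≤ N + p * R := hk
        _ ≤ N + p * N := by gcongr
        _ = (p + 1) * N := by ring
    exact Nat.le_of_mul_le_mul_left h1 (by omega)
  obtain ⟨e, he⟩ : ∃ e, N = k + e := ⟨N - k, by omega⟩
  have hqk : 0 < q ^ k := Nat.pow_pos hq
  have h2 : q ^ e ≤ s ^ (2 * n ^ 2 + n + 2 * j) := by
    rw [he, pow_add] at hI
    have h3 : q ^ e ≤ s ^ (2 * j) * M := by
      refine Nat.le_of_mul_le_mul_left ?_ hqk
      rw [← mul_assoc]; exact hI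
    calc q ^ e ≤ s ^ (2 * j) * M := h3
      _ ≤ s ^ (2 * j) * s ^ (2 * n ^ 2 + n) := Nat.mul_le_mul_left _ hM'
      _ = s ^ (2 * n ^ 2 + n + 2 * j) := by rw [← pow_add]; congr 1; ring
  have h4 : p * (N - R) ≤ (p + 1) * e := by
    obtain ⟨d, hd⟩ : ∃ d, N = R + d := ⟨N - R, by omega⟩
    have h5 : N - R = d := by omega
    rw [h5]
    have h6 : (p + 1) * k + (p + 1) * e = (p + 1) * N := by rw [he]; ring
    have h7 : (p + 1) * N = N + p * R + p * d := by rw [hd]; ring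
    omega
  calc q ^ (p * (N - R)) ≤ q ^ ((p + 1) * e) := Nat.pow_le_pow_right hq h4
    _ = (q ^ e) ^ (p + 1) := by rw [← pow_mul, mul_comm]
    _ ≤ (s ^ (2 * n ^ 2 + n + 2 * j)) ^ (p + 1) := Nat.pow_le_pow_left h2 _
    _ = s ^ ((p + 1) * (2 * n ^ 2 + n + 2 * j)) := by rw [← pow_mul, mul_comm]

theorem core2 {p q s a c E F X Y : ℕ} (hp : 1 ≤ p) (hq : 1 ≤ q) (hs : 1 ≤ s)
    (h : q ^ ((p - 1) * E) ≤ s ^ (p * F)) (hX : X ≤ E) (hY : F ≤ Y)
    (hac : a * p ≤ c * (p - 1)) : q ^ (a * X) ≤ s ^ (c * Y) := by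
  have h1 : (q ^ (a * X)) ^ p ≤ (s ^ (c * Y)) ^ p := by
    calc (q ^ (a * X)) ^ p = q ^ (a * p * X) := by rw [← pow_mul]; congr 1; ring
      _ ≤ q ^ (c * (p - 1) * E) :=
          Nat.pow_le_pow_right hq (Nat.mul_le_mul hac hX)
      _ = (q ^ ((p - 1) * E)) ^ c := by rw [← pow_mul]; congr 1; ring
      _ ≤ (s ^ (p * F)) ^ c := Nat.pow_le_pow_left h _
      _ = s ^ (c * p * F) := by rw [← pow_mul]; congr 1; ring
      _ ≤ s ^ (c * p * Y) := Nat.pow_le_pow_right hs (Nat.mul_le_mul_left _ hY)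
      _ = (s ^ (c * Y)) ^ p := by rw [← pow_mul]; congr 1; ring
  exact (Nat.pow_le_pow_iff_left (by omega)).mp h1

/-- `s ^ n - s ^ (n - j) ≥ (s ^ i - 1) s ^ (n - i)` for `i ≤ j`. -/
theorem diff_ge {s n j i : ℕ} (hs : 1 ≤ s) (hij : i ≤ j) (hjn : j ≤ n) :
    (s ^ i - 1) * s ^ (n - i) ≤ s ^ n - s ^ (n - j) := by
  have h1 : s ^ (n - j) ≤ s ^ (n - i) := Nat.pow_le_pow_right hs (by omega)
  have h2 : s ^ n = s ^ i * s ^ (n - i) := by rw [← pow_add]; congr 1; omega
  rw [Nat.sub_mul, one_mul, ← h2]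
  omega

theorem lin_pow {b c : ℕ} (n₀ : ℕ) (hb : c ≤ b) (h0 : 2 * n₀ ^ 2 + 3 * n₀ ≤ c) (hn₀ : 2 ≤ n₀)
    {n : ℕ} (hn : n₀ ≤ n) : 2 * n ^ 2 + 3 * n ≤ b * 2 ^ (n - n₀) := by
  obtain ⟨m, rfl⟩ : ∃ m, n = n₀ + m := ⟨n - n₀, by omega⟩
  clear hn
  rw [Nat.add_sub_cancel_left]
  induction m with
  | zero => simpa using h0.trans hb
  | succ m ih =>
    have h1 : b * 2 ^ (m + 1) = 2 * (b * 2 ^ m) := by rw [pow_succ]; ring
    rw [h1]
    have h2 : 2 ≤ n₀ + m := by omega
    have h3 : 2 * (n₀ + m) ≤ (n₀ + m) * (n₀ + m) := Nat.mul_le_mul_right _ h2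
    have h4 : 2 * (n₀ + (m + 1)) ^ 2 + 3 * (n₀ + (m + 1))
        = 2 * ((n₀ + m) * (n₀ + m)) + 7 * (n₀ + m) + 5 := by ring
    have h5 : 2 * (n₀ + m) ^ 2 + 3 * (n₀ + m) = 2 * ((n₀ + m) * (n₀ + m)) + 3 * (n₀ + m) := by ring
    rw [h5] at ih
    rw [h4]
    (clear * - ih h2 h3; omega)

/-- `a ^ X ≤ b ^ Y` is impossible if `b ^ u < a ^ v`, `X = v Z`, `Y ≤ u Z`. -/
theorem absurd_pow {a b u v X Y Z : ℕ} (hb : 1 ≤ b) (h : a ^ X ≤ b ^ Y) (huv : b ^ u < a ^ v)
    (hX : v * Z ≤ X) (hY : Y ≤ u * Z) (hZ : Z ≠ 0) (ha : 1 ≤ a) : False := by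
  have h1 : b ^ Y < a ^ X := by
    calc b ^ Y ≤ b ^ (u * Z) := Nat.pow_le_pow_right hb hY
      _ = (b ^ u) ^ Z := by rw [pow_mul]
      _ < (a ^ v) ^ Z := Nat.pow_lt_pow_left huv hZ
      _ = a ^ (v * Z) := by rw [pow_mul]
      _ ≤ a ^ X := Nat.pow_le_pow_right ha hX
  omega

/-- `s = 2`, `p = 3`. -/
theorem case3 {n j q : ℕ} (hq : 3 ≤ q) (hj : 1 ≤ j) (hjn : j ≤ n)
    (h : q ^ ((3 - 1) * (2 ^ n - 2 ^ (n - j))) ≤ 2 ^ (3 * (2 * n ^ 2 + n + 2 * j))) : n ≤ 8 := by
  by_contra hn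
  have hX := diff_ge (s := 2) (i := 1) (by norm_num) hj hjn
  have h1 := core2 (a := 2) (c := 3) (X := 2 ^ (n - 1)) (Y := 2 * n ^ 2 + 3 * n) (by norm_num)
    (by omega) (by norm_num) h (by simpa only [_root_.pow_one, _root_.Nat.add_one_sub_one, _root_.one_mul] using hX) (by omega) (by norm_num)
  have h2 : 3 ^ (2 * 2 ^ (n - 1)) ≤ 2 ^ (3 * (2 * n ^ 2 + 3 * n)) :=
    (Nat.pow_le_pow_left hq _).trans h1
  have h3 := lin_pow (b := 256) (c := 256) 9 (by norm_num) (by norm_num) (by norm_num)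
    (n := n) (by omega)
  have h4 : 256 * 2 ^ (n - 9) = 2 ^ (n - 1) := by
    rw [show (256 : ℕ) = 2 ^ 8 by norm_num, ← pow_add]; congr 1; omega
  rw [h4] at h3
  exact absurd_pow (u := 3) (v := 2) (Z := 2 ^ (n - 1)) (by norm_num) h2 (by norm_num) le_rfl
    (Nat.mul_le_mul_left _ h3) (by positivity) (by norm_num)

/-- `s = 2`, `p = 5`. -/
theorem case5 {n j q : ℕ} (hq : 5 ≤ q) (hj : 2 ≤ j) (hjn : j ≤ n)
    (h : q ^ ((5 - 1) * (2 ^ n - 2 ^ (n - j))) ≤ 2 ^ (5 * (2 * n ^ 2 + n + 2 * j))) : n ≤ 5 := by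
  by_contra hn
  have hX := diff_ge (s := 2) (i := 2) (by norm_num) hj hjn
  rcases Nat.lt_or_ge n 7 with h7 | h7
  · obtain rfl : n = 6 := by omega
    have h' : 5 ^ ((5 - 1) * (2 ^ 6 - 2 ^ (6 - j))) ≤ 2 ^ (5 * (2 * 6 ^ 2 + 6 + 2 * j)) :=
      (Nat.pow_le_pow_left hq _).trans h
    interval_cases j <;> revert h' <;> norm_num
  · have h1 := core2 (a := 4) (c := 5) (X := 3 * 2 ^ (n - 2)) (Y := 2 * n ^ 2 + 3 * n) (by norm_num)
      (by omega) (by norm_num) h (by simpa only [_root_.Nat.reducePow, _root_.Nat.add_one_sub_one] using hX) (by omega) (by norm_num)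
    have h2 : 5 ^ (4 * (3 * 2 ^ (n - 2))) ≤ 2 ^ (5 * (2 * n ^ 2 + 3 * n)) :=
      (Nat.pow_le_pow_left hq _).trans h1
    have h3 := lin_pow (b := 128) (c := 128) 7 (by norm_num) (by norm_num) (by norm_num)
      (n := n) (by omega)
    have h4 : 128 * 2 ^ (n - 7) = 4 * 2 ^ (n - 2) := by
      rw [show (128 : ℕ) = 2 ^ 7 by norm_num, ← pow_add, show (4 : ℕ) = 2 ^ 2 by norm_num,
        ← pow_add]
      congr 1; omega
    rw [h4] at h3
    exact absurd_pow (u := 20) (v := 12) (Z := 2 ^ (n - 2)) (by norm_num) h2 (by norm_num)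
      (le_of_eq (by ring)) (by linarith only [h3]) (by positivity) (by norm_num)

/-- `s = 2`, `p = 7`. -/
theorem case7 {n j q : ℕ} (hq : 7 ≤ q) (hj : 3 ≤ j) (hjn : j ≤ n)
    (h : q ^ ((7 - 1) * (2 ^ n - 2 ^ (n - j))) ≤ 2 ^ (7 * (2 * n ^ 2 + n + 2 * j))) : n ≤ 4 := by
  by_contra hn
  have hX := diff_ge (s := 2) (i := 3) (by norm_num) hj hjn
  have h1 := core2 (a := 6) (c := 7) (X := 7 * 2 ^ (n - 3)) (Y := 2 * n ^ 2 + 3 * n) (by norm_num)
    (by omega) (by norm_num) h (by simpa only [_root_.Nat.reducePow, _root_.Nat.add_one_sub_one] using hX) (by omega) (by norm_num)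
  have h2 : 7 ^ (6 * (7 * 2 ^ (n - 3))) ≤ 2 ^ (7 * (2 * n ^ 2 + 3 * n)) :=
    (Nat.pow_le_pow_left hq _).trans h1
  rcases Nat.lt_or_ge n 6 with h6 | h6
  · obtain rfl : n = 5 := by omega
    revert h2; norm_num
  · have h3 := lin_pow (b := 128) (c := 90) 6 (by norm_num) (by norm_num) (by norm_num)
      (n := n) (by omega)
    have h4 : 128 * 2 ^ (n - 6) = 16 * 2 ^ (n - 3) := by
      rw [show (128 : ℕ) = 2 ^ 7 by norm_num, ← pow_add, show (16 : ℕ) = 2 ^ 4 by norm_num,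
        ← pow_add]
      congr 1; omega
    rw [h4] at h3
    exact absurd_pow (u := 112) (v := 42) (Z := 2 ^ (n - 3)) (by norm_num) h2 (by norm_num)
      (le_of_eq (by ring)) (by linarith only [h3]) (by positivity) (by norm_num)

/-- `s = 2`, `p ≥ 11`. -/
theorem case11 {p n j q : ℕ} (hp : 11 ≤ p) (hq : 11 ≤ q) (hj : 4 ≤ j) (hjn : j ≤ n)
    (h : q ^ ((p - 1) * (2 ^ n - 2 ^ (n - j))) ≤ 2 ^ (p * (2 * n ^ 2 + n + 2 * j))) : False := by
  have hX := diff_ge (s := 2) (i := 4) (by norm_num) hj hjn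
  have h1 := core2 (a := 10) (c := 11) (X := 15 * 2 ^ (n - 4)) (Y := 2 * n ^ 2 + 3 * n) (by omega)
    (by omega) (by norm_num) h (by simpa only [_root_.Nat.reducePow, _root_.Nat.add_one_sub_one] using hX) (by omega) (by omega)
  have h2 : 11 ^ (10 * (15 * 2 ^ (n - 4))) ≤ 2 ^ (11 * (2 * n ^ 2 + 3 * n)) :=
    (Nat.pow_le_pow_left hq _).trans h1
  have h3 := lin_pow (b := 46) (c := 44) 4 (by norm_num) (by norm_num) (by norm_num)
    (n := n) (by omega)
  exact absurd_pow (u := 506) (v := 150) (Z := 2 ^ (n - 4)) (by norm_num) h2 (by norm_num)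
    (le_of_eq (by ring)) (by linarith only [h3]) (by positivity) (by norm_num)

theorem s_two {p n j q : ℕ} (hp : p.Prime) (hp2 : p ≠ 2) (hj : 1 ≤ j) (hjn : j ≤ n)
    (hd : ∃ i, 1 ≤ i ∧ i ≤ j ∧ p ∣ 2 ^ (2 * i) - 1) (hq : p ≤ q)
    (h : q ^ ((p - 1) * (2 ^ n - 2 ^ (n - j))) ≤ 2 ^ (p * (2 * n ^ 2 + n + 2 * j))) :
    (p = 3 ∧ n ≤ 8) ∨ (p = 5 ∧ n ≤ 5) ∨ (p = 7 ∧ n ≤ 4) := by
  obtain ⟨i, hi1, hij, hd⟩ := hd
  have hp3 := hp.two_le
  rcases Nat.lt_or_ge p 11 with h11 | h11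
  · have h357 : p = 3 ∨ p = 5 ∨ p = 7 := by
      interval_cases p <;> first | omega | (exfalso; revert hp; norm_num)
    rcases h357 with rfl | rfl | rfl
    · exact Or.inl ⟨rfl, case3 hq hj hjn h⟩
    · refine Or.inr (Or.inl ⟨rfl, case5 hq ?_ hjn h⟩)
      by_contra hj2
      obtain rfl : i = 1 := by omega
      revert hd; norm_num
    · refine Or.inr (Or.inr ⟨rfl, case7 hq ?_ hjn h⟩)
      by_contra hj2
      have : i < 3 := by omega
      interval_cases i <;> revert hd <;> norm_num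
  · exfalso
    refine case11 h11 (h11.trans hq) ?_ hjn h
    by_contra hj2
    have hi4 : i < 4 := by omega
    have : p ∣ 3 * 5 * 63 := by
      interval_cases i
      · exact hd.trans (by norm_num)
      · exact hd.trans (by norm_num)
      · exact hd.trans (by norm_num)
    have h7 : p ∣ 3 * 5 * 3 * 3 * 7 := by simpa using this
    rcases (Nat.Prime.dvd_mul hp).mp h7 with h | h
    · rcases (Nat.Prime.dvd_mul hp).mp h with h | h
      · rcases (Nat.Prime.dvd_mul hp).mp h with h | h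
        · rcases (Nat.Prime.dvd_mul hp).mp h with h | h
          · have := Nat.le_of_dvd (by norm_num) h; omega
          · have := Nat.le_of_dvd (by norm_num) h; omega
        · have := Nat.le_of_dvd (by norm_num) h; omega
      · have := Nat.le_of_dvd (by norm_num) h; omega
    · have := Nat.le_of_dvd (by norm_num) h; omega

/-- `s = 3`. -/
theorem s_three {p n j f : ℕ} (hp : p.Prime) (hp3 : p ≠ 3) (hp2 : p ≠ 2) (hj : 1 ≤ j) (hjn : j ≤ n)
    (hd : ∃ i, 1 ≤ i ∧ i ≤ j ∧ p ∣ 3 ^ (2 * i) - 1) (hf : 1 ≤ f) (hsq : 3 ∣ p ^ f - 1)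
    (h : (p ^ f) ^ ((p - 1) * (3 ^ n - 3 ^ (n - j))) ≤ 3 ^ (p * (2 * n ^ 2 + n + 2 * j))) :
    False := by
  obtain ⟨i, hi1, hij, hd⟩ := hd
  have hp5 : 5 ≤ p := by
    have := hp.two_le
    by_contra h5
    have : p = 4 := by omega
    subst this
    revert hp; norm_num
  have hi2 : 2 ≤ i := by
    by_contra hi2
    obtain rfl : i = 1 := by omega
    have h8 : p ∣ 2 ^ 3 := by simpa using hd
    have := Nat.le_of_dvd (by norm_num) (hp.dvd_of_dvd_pow h8)
    omega
  have hj2 : 2 ≤ j := by omega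
  have hpf : p ≤ p ^ f := Nat.le_self_pow (by omega) p
  have hX := diff_ge (s := 3) (i := 2) (by norm_num) hj2 hjn
  have h1 := core2 (a := 4) (c := 5) (X := 8 * 3 ^ (n - 2)) (Y := 2 * n ^ 2 + 3 * n) (by omega)
    (by omega) (by norm_num) h (by simpa only [_root_.Nat.reducePow, _root_.Nat.add_one_sub_one] using hX) (by omega) (by omega)
  rcases Nat.lt_or_ge n 3 with h3 | h3
  · obtain rfl : n = 2 := by omega
    obtain rfl : j = 2 := by omega
    obtain rfl : i = 2 := by omega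
    have h5 : p = 5 := by
      have h80 : p ∣ 2 ^ 4 * 5 := by simpa using hd
      rcases (Nat.Prime.dvd_mul hp).mp h80 with h | h
      · have := Nat.le_of_dvd (by norm_num) (hp.dvd_of_dvd_pow h)
        omega
      · have := Nat.le_of_dvd (by norm_num) h
        omega
    subst h5
    have hf2 : 2 ≤ f := by
      by_contra hf2
      obtain rfl : f = 1 := by omega
      revert hsq; norm_num
    have h25 : 25 ≤ 5 ^ f := by
      calc 25 = 5 ^ 2 := by norm_num
        _ ≤ 5 ^ f := Nat.pow_le_pow_right (by norm_num) hf2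
    have h2 : 25 ^ (4 * (8 * 3 ^ (2 - 2))) ≤ 3 ^ (5 * (2 * 2 ^ 2 + 3 * 2)) :=
      (Nat.pow_le_pow_left h25 _).trans h1
    revert h2; norm_num
  · have h2 : 5 ^ (4 * (8 * 3 ^ (n - 2))) ≤ 3 ^ (5 * (2 * n ^ 2 + 3 * n)) :=
      (Nat.pow_le_pow_left (hp5.trans hpf) _).trans h1
    rcases Nat.lt_or_ge n 4 with h4 | h4
    · obtain rfl : n = 3 := by omega
      revert h2; norm_num
    · have h3 := lin_pow (b := 44) (c := 44) 4 (by norm_num) (by norm_num) (by norm_num)
        (n := n) (by omega)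
      have h5 : 2 ^ (n - 4) ≤ 3 ^ (n - 4) := Nat.pow_le_pow_left (by norm_num) _
      have h6 : 3 ^ (n - 2) = 9 * 3 ^ (n - 4) := by
        rw [show (9 : ℕ) = 3 ^ 2 by norm_num, ← pow_add]; congr 1; omega
      exact absurd_pow (u := 220) (v := 288) (Z := 3 ^ (n - 4)) (by norm_num) h2 (by norm_num)
        (le_of_eq (by rw [h6]; ring)) (by linarith only [h3, h5]) (by positivity) (by norm_num)

theorem odd_two_mul {s q : ℕ} (hs : ¬ 2 ∣ s) (hq : ¬ 2 ∣ q) (hq1 : 1 < q) (h : s ∣ q - 1) :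
    2 * s + 1 ≤ q := by
  obtain ⟨t, ht⟩ := h
  have ht2 : 2 ≤ t := by
    by_contra ht2
    have : t = 0 ∨ t = 1 := by omega
    rcases this with rfl | rfl
    · simp at ht; omega
    · rw [mul_one] at ht; omega
  have : 2 * s ≤ s * t := by rw [mul_comm]; exact Nat.mul_le_mul_left s ht2
  omega

/-- `s ≥ 5`. -/
theorem s_five {p s n j f : ℕ} (hp : p.Prime) (hs : s.Prime) (hs5 : 5 ≤ s) (hp2 : p ≠ 2)
    (hj : 1 ≤ j) (hjn : j ≤ n)
    (hd : ∃ i, 1 ≤ i ∧ i ≤ j ∧ p ∣ s ^ (2 * i) - 1) (hf : 1 ≤ f) (hsq : s ∣ p ^ f - 1)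
    (h : (p ^ f) ^ ((p - 1) * (s ^ n - s ^ (n - j))) ≤ s ^ (p * (2 * n ^ 2 + n + 2 * j))) :
    False := by
  have hp3 : 3 ≤ p := by
    have := hp.two_le
    omega
  have hpf : p ≤ p ^ f := Nat.le_self_pow (by omega) p
  have hp2' : ¬ 2 ∣ p := fun hh => hp2 ((Nat.prime_dvd_prime_iff_eq Nat.prime_two hp).mp hh).symm
  have hs2' : ¬ 2 ∣ s := fun hh => by
    have := (Nat.prime_dvd_prime_iff_eq Nat.prime_two hs).mp hh
    omega
  have hq : 2 * s + 1 ≤ p ^ f := odd_two_mul hs2'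
    (fun hh => hp2' (Nat.prime_two.dvd_of_dvd_pow hh)) (by omega) hsq
  have hX := diff_ge (s := s) (i := 1) (by omega) hj hjn
  rw [pow_one] at hX
  have h1 := core2 (a := 2) (c := 3) (X := (s - 1) * s ^ (n - 1)) (Y := 2 * n ^ 2 + 3 * n)
    (by omega) (by omega) (by omega) h hX (by omega) (by (clear * - hp3; omega))
  have h2 : (2 * s + 1) ^ (2 * ((s - 1) * s ^ (n - 1))) ≤ s ^ (3 * (2 * n ^ 2 + 3 * n)) :=
    (Nat.pow_le_pow_left hq _).trans h1
  have key : 3 * (2 * n ^ 2 + 3 * n) ≤ 2 * ((s - 1) * s ^ (n - 1)) → False := by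
    intro hk
    refine absurd_pow (u := 1) (v := 1) (Z := 2 * ((s - 1) * s ^ (n - 1))) (by omega) h2
      (by rw [pow_one, pow_one]; omega) (by rw [one_mul]) (by rw [one_mul]; exact hk) ?_ (by omega)
    have h3 : 0 < s - 1 := by omega
    positivity
  rcases Nat.lt_or_ge n 2 with hn | hn
  · obtain rfl : n = 1 := by omega
    obtain rfl : j = 1 := by omega
    rcases Nat.lt_or_ge s 9 with hs9 | hs9
    · have : s = 5 ∨ s = 7 := by
        interval_cases s <;> omega
      rcases this with rfl | rfl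
      · obtain ⟨i, hi1, hij, hd⟩ := hd
        obtain rfl : i = 1 := by omega
        have h3 : p = 3 := by
          have h24 : p ∣ 2 ^ 3 * 3 := by simpa using hd
          rcases (Nat.Prime.dvd_mul hp).mp h24 with h | h
          · have := Nat.le_of_dvd (by norm_num) (hp.dvd_of_dvd_pow h)
            omega
          · have := Nat.le_of_dvd (by norm_num) h
            omega
        subst h3
        have hf4 : 4 ≤ f := by
          by_contra hf4
          have : f < 4 := by omega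
          interval_cases f <;> revert hsq <;> norm_num
        have h81 : 81 ≤ 3 ^ f := by
          calc 81 = 3 ^ 4 := by norm_num
            _ ≤ 3 ^ f := Nat.pow_le_pow_right (by norm_num) hf4
        have h4 : 81 ^ (2 * ((5 - 1) * 5 ^ (1 - 1))) ≤ 5 ^ (3 * (2 * 1 ^ 2 + 3 * 1)) :=
          (Nat.pow_le_pow_left h81 _).trans h1
        revert h4; norm_num
      · revert h2; norm_num
    · refine key ?_
      simp only [Nat.sub_self, pow_zero, mul_one, one_pow]
      omega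
  · rcases Nat.lt_or_ge s 7 with hs7 | hs7
    · have : s = 5 := by
        interval_cases s <;> first | rfl | (exfalso; revert hs; norm_num)
      subst this
      rcases Nat.lt_or_ge n 3 with hn3 | hn3
      · obtain rfl : n = 2 := by omega
        revert h2; norm_num
      · refine key ?_
        have h3 := lin_pow (b := 27) (c := 27) 3 (by norm_num) (by norm_num) (by norm_num)
          (n := n) (by omega)
        have h5 : 2 ^ (n - 3) ≤ 5 ^ (n - 3) := Nat.pow_le_pow_left (by norm_num) _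
        have h6 : 5 ^ (n - 1) = 25 * 5 ^ (n - 3) := by
          rw [show (25 : ℕ) = 5 ^ 2 by norm_num, ← pow_add]; congr 1; omega
        rw [h6]
        (clear * - h3 h5; omega)
    · refine key ?_
      have h3 := lin_pow (b := 14) (c := 14) 2 (by norm_num) (by norm_num) (by norm_num)
        (n := n) (by omega)
      have h5 : 2 ^ (n - 2) ≤ s ^ (n - 2) := Nat.pow_le_pow_left (by omega) _
      have h6 : s ^ (n - 1) = s * s ^ (n - 2) := by
        rw [← pow_succ']; congr 1; omega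
      have h7 : 6 * (7 * s ^ (n - 2)) ≤ (s - 1) * (s * s ^ (n - 2)) :=
        Nat.mul_le_mul (by omega) (Nat.mul_le_mul_right _ hs7)
      rw [h6]
      omega

/-- [NUM] -/
theorem num {p s n j f M : ℕ} (hp : p.Prime) (hs : s.Prime) (hps : p ≠ s) (hp2 : p ≠ 2)
    (hj : 1 ≤ j) (hjn : j ≤ n)
    (hd : ∃ i, 1 ≤ i ∧ i ≤ j ∧ p ∣ s ^ (2 * i) - 1) (hf : 1 ≤ f) (hsq : s ∣ p ^ f - 1)
    (hM : M ≤ s ^ (n ^ 2) * ∏ i ∈ Finset.range n, (s ^ (2 * (i + 1)) - 1))
    (hI : Ineq p s n j (p ^ f) M) :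
    s = 2 ∧ ((p = 3 ∧ n ≤ 8) ∨ (p = 5 ∧ n ≤ 5) ∨ (p = 7 ∧ n ≤ 4)) := by
  have hp1 := hp.two_le
  have hs1 := hs.two_le
  have hpf : p ≤ p ^ f := Nat.le_self_pow (by omega) p
  have h := core (by omega) (by omega) (by omega) hM hI
  rcases Nat.lt_or_ge s 5 with hs5 | hs5
  · have : s = 2 ∨ s = 3 := by
      interval_cases s <;> first | omega | (exfalso; revert hs; norm_num)
    rcases this with rfl | rfl
    · exact ⟨rfl, s_two hp hp2 hj hjn hd hpf h⟩
    · exact (s_three hp hps hp2 hj hjn hd hf hsq h).elim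
  · exact (s_five hp hs hs5 hp2 hj hjn hd hf hsq h).elim

/-- the semilinear inequality, cleaned. -/
theorem core' {a p N C : ℕ} (ha : 3 ≤ a) (hp : 1 ≤ p) (hN : 1 ≤ N)
    (h : ((a ^ p) ^ N - 1) * (a - 1) ≤ C * (a ^ N - 1) * (a ^ p - 1)) :
    2 * a ^ ((p - 1) * (N - 1)) ≤ 3 * C := by
  obtain ⟨p, rfl⟩ : ∃ p', p = p' + 1 := ⟨p - 1, by omega⟩
  obtain ⟨N, rfl⟩ : ∃ N', N = N' + 1 := ⟨N - 1, by omega⟩
  simp only [Nat.add_sub_cancel]
  have haN : a ≤ a ^ (N + 1) := Nat.le_self_pow (by omega) a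
  have h1 : a ^ (p * (N + 1)) * (a ^ (N + 1) - 1) ≤ (a ^ (p + 1)) ^ (N + 1) - 1 := by
    have h2 : (a ^ (p + 1)) ^ (N + 1) = a ^ (p * (N + 1)) * a ^ (N + 1) := by
      rw [← pow_mul, ← pow_add]; congr 1; ring
    have h3 : 1 ≤ a ^ (p * (N + 1)) := Nat.one_le_pow _ _ (by omega)
    rw [h2, Nat.mul_sub, mul_one]
    omega
  have h4 : a ^ (p * (N + 1)) * (a - 1) ≤ C * (a ^ (p + 1) - 1) := by
    refine Nat.le_of_mul_le_mul_left (c := a ^ (N + 1) - 1) ?_ (by omega)
    calc (a ^ (N + 1) - 1) * (a ^ (p * (N + 1)) * (a - 1))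
        = a ^ (p * (N + 1)) * (a ^ (N + 1) - 1) * (a - 1) := by ring
      _ ≤ ((a ^ (p + 1)) ^ (N + 1) - 1) * (a - 1) := Nat.mul_le_mul_right _ h1
      _ ≤ C * (a ^ (N + 1) - 1) * (a ^ (p + 1) - 1) := h
      _ = (a ^ (N + 1) - 1) * (C * (a ^ (p + 1) - 1)) := by ring
  have h5 : C * (a ^ (p + 1) - 1) ≤ C * a ^ (p + 1) := Nat.mul_le_mul_left _ (Nat.sub_le _ _)
  have h6 : 2 * a ≤ 3 * (a - 1) := by omega
  have h7 : a ^ (p * (N + 1)) * (2 * a) ≤ 3 * (C * a ^ (p + 1)) := by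
    calc a ^ (p * (N + 1)) * (2 * a) ≤ a ^ (p * (N + 1)) * (3 * (a - 1)) :=
          Nat.mul_le_mul_left _ h6
      _ = 3 * (a ^ (p * (N + 1)) * (a - 1)) := by ring
      _ ≤ 3 * (C * a ^ (p + 1)) := Nat.mul_le_mul_left _ (h4.trans h5)
  have h8 : 0 < a ^ (p + 1) := Nat.pow_pos (by omega)
  refine Nat.le_of_mul_le_mul_left (c := a ^ (p + 1)) ?_ h8
  calc a ^ (p + 1) * (2 * a ^ (p * N)) = a ^ (p * (N + 1)) * (2 * a) := by
        rw [show p * (N + 1) = p * N + p by ring, pow_add, pow_succ]; ring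
    _ ≤ 3 * (C * a ^ (p + 1)) := h7
    _ = a ^ (p + 1) * (3 * C) := by ring

theorem nine_pow (s : ℕ) (hs : 5 ≤ s) : 3 * s ^ 5 < 2 * 9 ^ (s - 1) ∧ s ^ 5 ≤ 9 ^ (s - 1) := by
  induction s, hs using Nat.le_induction with
  | base => norm_num
  | succ s hs ih =>
    have h1 : 9 ^ (s + 1 - 1) = 9 * 9 ^ (s - 1) := by
      rw [← pow_succ']; congr 1; omega
    rw [h1]
    have h2 : (s + 1) ^ 5 ≤ 9 * s ^ 5 := by
      obtain ⟨t, rfl⟩ : ∃ t, s = t + 5 := ⟨s - 5, by omega⟩
      have h3 : 9 * (t + 5) ^ 5 = (t + 5 + 1) ^ 5 + (8 * t ^ 5 + 195 * t ^ 4 + 1890 * t ^ 3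
        + 9090 * t ^ 2 + 21645 * t + 20349) := by ring
      rw [h3]
      exact Nat.le_add_right _ _
    exact ⟨by omega, by omega⟩

theorem nine_pow' (s : ℕ) (hs : 5 ≤ s) (n : ℕ) (hn : 1 ≤ n) :
    3 * s ^ (2 * n ^ 2 + 3 * n) < 2 * 9 ^ (s ^ n - 1) := by
  induction n, hn using Nat.le_induction with
  | base => simpa only [_root_.one_pow, _root_.mul_one, _root_.Nat.reduceAdd, _root_.pow_one] using (nine_pow s hs).1
  | succ n hn ih =>
    have h1 : s ^ (n + 1) - 1 = (s ^ n - 1) + (s - 1) * s ^ n := by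
      have : 1 ≤ s ^ n := Nat.one_le_pow _ _ (by omega)
      obtain ⟨t, rfl⟩ : ∃ t, s = t + 1 := ⟨s - 1, by omega⟩
      rw [Nat.add_sub_cancel, pow_succ (t + 1) n, mul_add, mul_one, mul_comm ((t + 1) ^ n) t]
      omega
    have h2 : s ^ (4 * n + 5) ≤ 9 ^ ((s - 1) * s ^ n) := by
      have h3 : 4 * n + 5 ≤ 5 * s ^ n := by
        have h4 : n < s ^ n := Nat.lt_pow_self (by omega)
        omega
      calc s ^ (4 * n + 5) ≤ s ^ (5 * s ^ n) := Nat.pow_le_pow_right (by omega) h3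
        _ = (s ^ 5) ^ (s ^ n) := by rw [pow_mul]
        _ ≤ (9 ^ (s - 1)) ^ (s ^ n) := Nat.pow_le_pow_left (nine_pow s hs).2 _
        _ = _ := by rw [← pow_mul]
    rw [h1, pow_add (9 : ℕ),
      show 2 * (n + 1) ^ 2 + 3 * (n + 1) = (2 * n ^ 2 + 3 * n) + (4 * n + 5) by ring, pow_add s]
    calc 3 * (s ^ (2 * n ^ 2 + 3 * n) * s ^ (4 * n + 5))
        = (3 * s ^ (2 * n ^ 2 + 3 * n)) * s ^ (4 * n + 5) := by ring
      _ < (2 * 9 ^ (s ^ n - 1)) * 9 ^ ((s - 1) * s ^ n) :=
          Nat.mul_lt_mul_of_lt_of_le ih h2 (Nat.pow_pos (by norm_num))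
      _ = 2 * (9 ^ (s ^ n - 1) * 9 ^ ((s - 1) * s ^ n)) := by ring

/-- [NUM'] semilinear -/
theorem num' {p s n f f₀ M : ℕ} (hp : p.Prime) (hs : s.Prime) (hps : p ≠ s) (hp2 : p ≠ 2)
    (hn : 1 ≤ n) (hf : 1 ≤ f₀) (_hsq : s ∣ p ^ f - 1)
    (hM : M ≤ s ^ (n ^ 2) * ∏ i ∈ Finset.range n, (s ^ (2 * (i + 1)) - 1)) (hff : f = p * f₀)
    (hI : ((p ^ f) ^ (s ^ n) - 1) * (p ^ f₀ - 1)
      ≤ s ^ (2 * n) * M * ((p ^ f₀) ^ (s ^ n) - 1) * (p ^ f - 1)) :
    s = 2 ∧ p = 3 ∧ n ≤ 3 := by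
  have hp1 := hp.two_le
  have hs1 := hs.two_le
  have hp3 : 3 ≤ p := by omega
  have hpf : p ≤ p ^ f₀ := Nat.le_self_pow (by omega) p
  have hff' : p ^ f = (p ^ f₀) ^ p := by rw [hff, ← pow_mul, mul_comm]
  rw [hff'] at hI
  have h1 := core' (hp3.trans hpf) (by omega) (Nat.one_le_pow _ _ (by omega)) hI
  have h2 : s ^ (2 * n) * M ≤ s ^ (2 * n ^ 2 + 3 * n) := by
    calc s ^ (2 * n) * M ≤ s ^ (2 * n) * s ^ (2 * n ^ 2 + n) :=
          Nat.mul_le_mul_left _ (hM.trans (prod_le s n))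
      _ = _ := by rw [← pow_add]; congr 1; ring
  have h3 : 2 * p ^ ((p - 1) * (s ^ n - 1)) ≤ 3 * s ^ (2 * n ^ 2 + 3 * n) := by
    calc 2 * p ^ ((p - 1) * (s ^ n - 1)) ≤ 2 * (p ^ f₀) ^ ((p - 1) * (s ^ n - 1)) :=
          Nat.mul_le_mul_left _ (Nat.pow_le_pow_left hpf _)
      _ ≤ 3 * (s ^ (2 * n) * M) := h1
      _ ≤ _ := Nat.mul_le_mul_left _ h2
  have hsn : s ≤ s ^ n := Nat.le_self_pow (by omega) s
  -- `p ^ (p-1) ≥ 9`, and `≥ 625` for `p ≥ 5`
  have h9 : 2 * 9 ^ (s ^ n - 1) ≤ 3 * s ^ (2 * n ^ 2 + 3 * n) := by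
    refine le_trans (Nat.mul_le_mul_left _ ?_) h3
    rw [pow_mul]
    refine Nat.pow_le_pow_left ?_ _
    calc 9 = 3 ^ 2 := by norm_num
      _ ≤ p ^ 2 := Nat.pow_le_pow_left hp3 _
      _ ≤ p ^ (p - 1) := Nat.pow_le_pow_right (by omega) (by omega)
  have h625 : 5 ≤ p → 2 * 625 ^ (s ^ n - 1) ≤ 3 * s ^ (2 * n ^ 2 + 3 * n) := by
    intro hp5
    refine le_trans (Nat.mul_le_mul_left _ ?_) h3
    rw [pow_mul]
    refine Nat.pow_le_pow_left ?_ _
    calc 625 = 5 ^ 4 := by norm_num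
      _ ≤ p ^ 4 := Nat.pow_le_pow_left hp5 _
      _ ≤ p ^ (p - 1) := Nat.pow_le_pow_right (by omega) (by omega)
  have h35 : p = 3 ∨ 5 ≤ p := by
    rcases Nat.lt_or_ge p 5 with h | h
    · left
      interval_cases p
      · rfl
      · exfalso; revert hp; norm_num
    · exact Or.inr h
  rcases Nat.lt_or_ge s 5 with hs5 | hs5
  · have : s = 2 ∨ s = 3 := by
      interval_cases s <;> first | omega | (exfalso; revert hs; norm_num)
    have hlin : ∀ k : ℕ, 2 * (k + 1) ^ 2 + 3 * (k + 1) + 1 ≤ 9 * (2 ^ (k + 1) - 1) := by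
      intro k
      induction k with
      | zero => norm_num
      | succ k ih =>
        have h5 : k + 1 < 2 ^ (k + 1) := Nat.lt_pow_self (by norm_num)
        have h6 : 2 ^ (k + 1 + 1) = 2 * 2 ^ (k + 1) := by rw [pow_succ']
        rw [h6]
        have h7 : 2 * (k + 1 + 1) ^ 2 + 3 * (k + 1 + 1) + 1
          = (2 * (k + 1) ^ 2 + 3 * (k + 1) + 1) + (4 * (k + 1) + 5) := by ring
        rw [h7]
        (clear * - ih h5; omega)
    have hn' : 2 * n ^ 2 + 3 * n + 1 ≤ 9 * (2 ^ n - 1) := by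
      have := hlin (n - 1)
      rwa [show n - 1 + 1 = n by omega] at this
    rcases this with rfl | rfl
    · rcases h35 with rfl | hp5
      · refine ⟨rfl, rfl, ?_⟩
        by_contra hn4
        rcases Nat.lt_or_ge n 5 with h5 | h5
        · obtain rfl : n = 4 := by omega
          revert h9; norm_num
        · have h6 := lin_pow (b := 65) (c := 65) 5 (by norm_num) (by norm_num) (by norm_num)
            (n := n) (by omega)
          have h7 : 2 ^ n = 32 * 2 ^ (n - 5) := by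
            rw [show (32 : ℕ) = 2 ^ 5 by norm_num, ← pow_add]; congr 1; omega
          have h8 : 2 * n ^ 2 + 3 * n + 1 ≤ 3 * (2 ^ n - 1) := by
            have : 0 < 2 ^ (n - 5) := by positivity
            (clear * - hsn h6 h7; omega)
          have h10 : 2 * 2 ^ (2 * n ^ 2 + 3 * n + 1) ≤ 2 * 9 ^ (2 ^ n - 1) := by
            refine Nat.mul_le_mul_left _ ?_
            calc 2 ^ (2 * n ^ 2 + 3 * n + 1) ≤ 2 ^ (3 * (2 ^ n - 1)) :=
                  Nat.pow_le_pow_right (by norm_num) h8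
              _ = (2 ^ 3) ^ (2 ^ n - 1) := by rw [pow_mul]
              _ ≤ 9 ^ (2 ^ n - 1) := Nat.pow_le_pow_left (by norm_num) _
          rw [pow_succ] at h10
          have h11 : 0 < 2 ^ (2 * n ^ 2 + 3 * n) := by positivity
          omega
      · exfalso
        have h625 := h625 hp5
        have h10 : 2 * 2 ^ (2 * n ^ 2 + 3 * n + 1) ≤ 2 * 625 ^ (2 ^ n - 1) := by
          refine Nat.mul_le_mul_left _ ?_
          calc 2 ^ (2 * n ^ 2 + 3 * n + 1) ≤ 2 ^ (9 * (2 ^ n - 1)) :=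
                Nat.pow_le_pow_right (by norm_num) hn'
            _ = (2 ^ 9) ^ (2 ^ n - 1) := by rw [pow_mul]
            _ ≤ 625 ^ (2 ^ n - 1) := Nat.pow_le_pow_left (by norm_num) _
        rw [pow_succ] at h10
        have h11 : 0 < 2 ^ (2 * n ^ 2 + 3 * n) := by positivity
        omega
    · exfalso
      rcases h35 with rfl | hp5
      · exact hps rfl
      · have h625 := h625 hp5
        have h5 : 2 * (3 ^ n - 1) ≥ 2 ^ n := by
          have h6 : ∀ k : ℕ, 2 ^ (k + 1) + 2 ≤ 2 * 3 ^ (k + 1) := by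
            intro k
            induction k with
            | zero => norm_num
            | succ k ih => rw [pow_succ 2, pow_succ 3]; omega
          have := h6 (n - 1)
          rw [show n - 1 + 1 = n by omega] at this
          omega
        have hlin3 : ∀ k : ℕ, 2 * (k + 1) ^ 2 + 3 * (k + 1) + 1 ≤ 5 * (3 ^ (k + 1) - 1) := by
          intro k
          induction k with
          | zero => norm_num
          | succ k ih =>
            have h5 : k + 1 < 3 ^ (k + 1) := Nat.lt_pow_self (by norm_num)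
            have h6 : 3 ^ (k + 1 + 1) = 3 * 3 ^ (k + 1) := by rw [pow_succ']
            rw [h6]
            have h7 : 2 * (k + 1 + 1) ^ 2 + 3 * (k + 1 + 1) + 1
              = (2 * (k + 1) ^ 2 + 3 * (k + 1) + 1) + (4 * (k + 1) + 5) := by ring
            rw [h7]
            (clear * - ih; omega)
        have hn3 : 2 * n ^ 2 + 3 * n + 1 ≤ 5 * (3 ^ n - 1) := by
          have := hlin3 (n - 1)
          rwa [show n - 1 + 1 = n by omega] at this
        have h10 : 2 * 3 ^ (2 * n ^ 2 + 3 * n + 1) ≤ 2 * 625 ^ (3 ^ n - 1) := by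
          refine Nat.mul_le_mul_left _ ?_
          calc 3 ^ (2 * n ^ 2 + 3 * n + 1) ≤ 3 ^ (5 * (3 ^ n - 1)) :=
                Nat.pow_le_pow_right (by norm_num) hn3
            _ = (3 ^ 5) ^ (3 ^ n - 1) := by rw [pow_mul]
            _ ≤ 625 ^ (3 ^ n - 1) := Nat.pow_le_pow_left (by norm_num) _
        rw [pow_succ] at h10
        have h11 : 0 < 3 ^ (2 * n ^ 2 + 3 * n) := by positivity
        omega
  · exfalso
    have := nine_pow' s hs5 n hn
    omega

end Cfsg.Agent.H397.GW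
end

-- part: H461/GW/Frob
section
set_option linter.all false
open scoped Cfsg.Agent.FastGrp

/-!
# TEAM GW: tools for `SR` / `SA`

* `SR.fix_zero`: a nontrivial normal subgroup of `Y` has no nonzero fixed point on `U`.
* `SR.core_bot`: normal `s`-subgroups of `Y` are trivial.
* `SR.exists_rgroup`: if `X` is solvable and nontrivial, there is a normal `r`-subgroup `R ≤ X` of `Y` not centralised
  by `x`.
* `SA.p_dvd`: if `R ≤ X` is a nontrivial nilpotent normal subgroup of `Y` with `C_R(x) = 1`, then `n = (n - j) * p`.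
-/

set_option autoImplicit false

namespace Cfsg.Agent.H461.GW

open Cfsg.Agent.H662.GW

variable {p s n : ℕ} {Y U : Type*} [Group Y] [Finite Y] [AddCommGroup U] [Finite U]
    [DistribMulAction Y U] {X : Subgroup Y} {x : Y} {B : U → U → ZMod s}

theorem SR.x_not_mem (h : SR (U := U) p s n X x B) : x ∉ X := by
  intro hx
  apply h.cop
  rw [← h.ord]
  exact Subgroup.orderOf_dvd_natCard X hx

theorem SR.eq_top (h : SR (U := U) p s n X x B) {M : Subgroup Y} (hM : M.Normal) (hx : x ∈ M) : M = ⊤ :=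
  h.gen M hM (fun hle => SR.x_not_mem h (hle hx))

theorem SR.nontrivial (h : SR (U := U) p s n X x B) : Nontrivial U := by
  rw [← Finite.one_lt_card_iff_nontrivial, h.card]
  exact Nat.one_lt_pow (by have := h.hn; omega) h.hs.one_lt

/-- a nontrivial normal subgroup has no nonzero fixed point -/
theorem SR.fix_zero (h : SR (U := U) p s n X x B) {N : Subgroup Y} (hN : N.Normal) (h1 : N ≠ ⊥) {u : U}
    (hu : ∀ y ∈ N, y • u = u) : u = 0 := by
  let W : AddSubgroup U :=
    { carrier := {u | ∀ y ∈ N, y • u = u}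
      zero_mem' := fun y _ => smul_zero y
      add_mem' := fun {a b} ha hb y hy => by rw [smul_add, ha y hy, hb y hy]
      neg_mem' := fun {a} ha y hy => by rw [smul_neg, ha y hy] }
  have hW : ∀ y : Y, ∀ w ∈ W, y • w ∈ W := by
    intro y w hw z hz
    have h2 := hw (y⁻¹ * z * y) (by simpa using hN.conj_mem z hz y⁻¹)
    calc z • y • w = y • ((y⁻¹ * z * y) • w) := by rw [← mul_smul, ← mul_smul]; congr 1; group
      _ = y • w := by rw [h2]
  rcases h.irr W hW with h3 | h3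
  · have : u ∈ W := hu
    rw [h3] at this
    exact (AddSubgroup.mem_bot).mp this
  · exfalso
    apply h1
    rw [Subgroup.eq_bot_iff_forall]
    intro y hy
    apply h.faith
    intro v
    have hv : v ∈ W := h3 ▸ AddSubgroup.mem_top v
    exact hv y hy

/-- normal `s`-subgroups of `Y` are trivial -/
theorem SR.core_bot (h : SR (U := U) p s n X x B) {N : Subgroup Y} (hN : N.Normal) (hp : IsPGroup s N) : N = ⊥ := by
  by_contra h1
  have := Fact.mk h.hs
  obtain ⟨b, hb, hb0⟩ := hp.exists_fixed_point_of_prime_dvd_card_of_fixed_point U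
    (by rw [h.card]; exact dvd_pow_self _ (by have := h.hn; omega)) (a := 0) (fun g => smul_zero g)
  exact hb0 (SR.fix_zero h hN h1 (fun y hy => hb ⟨y, hy⟩)).symm

/-- if `x` centralises `X` then `X = 1` -/
theorem SR.eq_bot_of_comm (h : SR (U := U) p s n X x B) (hc : ∀ g ∈ X, x * g = g * x) : X = ⊥ := by
  have hle : X ≤ Subgroup.centralizer ({x} : Set Y) := by
    intro g hg
    rw [Subgroup.mem_centralizer_iff]
    intro a ha
    rw [Set.mem_singleton_iff.mp ha]
    exact hc g hg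
  have hxc : x ∈ Subgroup.centralizer ({x} : Set Y) := by
    rw [Subgroup.mem_centralizer_iff]
    intro a ha
    rw [Set.mem_singleton_iff.mp ha]
  have htop : Subgroup.centralizer ({x} : Set Y) = ⊤ := by
    have h2 := Subgroup.relIndex_mul_index hle
    rw [h.idx] at h2
    have h3 : (Subgroup.centralizer ({x} : Set Y)).index ∣ p := ⟨_, by rw [mul_comm]; exact h2.symm⟩
    rcases (Nat.dvd_prime h.hp).mp h3 with h4 | h4
    · exact Subgroup.index_eq_one.mp h4
    · exfalso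
      rw [h4] at h2
      have h5 : X.relIndex (Subgroup.centralizer ({x} : Set Y)) = 1 := by
        have := h.hp.pos
        exact Nat.eq_of_mul_eq_mul_right this (by rw [h2, one_mul])
      rw [Subgroup.relIndex_eq_one] at h5
      exact SR.x_not_mem h (h5 hxc)
  have hnorm : (Subgroup.zpowers x).Normal := by
    constructor
    intro a ha g
    have hg : g ∈ Subgroup.centralizer ({x} : Set Y) := htop ▸ Subgroup.mem_top g
    rw [Subgroup.mem_centralizer_iff] at hg
    have h2 : x * g = g * x := hg x rfl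
    obtain ⟨k, rfl⟩ := Subgroup.mem_zpowers_iff.mp ha
    have h3 : Commute g (x ^ k) := (show Commute g x from h2.symm).zpow_right k
    rw [h3.eq, mul_inv_cancel_right]
    exact ha
  have h4 := SR.eq_top h hnorm (Subgroup.mem_zpowers x)
  have h5 : Nat.card Y = p := by
    rw [← Subgroup.card_top, ← h4, Nat.card_zpowers, h.ord]
  have h6 := Subgroup.card_mul_index X
  rw [h.idx, h5] at h6
  apply Subgroup.card_eq_one.mp
  have := h.hp.pos
  exact Nat.eq_of_mul_eq_mul_right this (by rw [h6, one_mul])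

/-- **Solvable `X`**: a minimal noncentral normal `r`-subgroup not centralised by `x`. -/
theorem SR.exists_rgroup_min (h : SR (U := U) p s n X x B) (hsol : Group.IsSolvable X) (hX : X ≠ ⊥) :
    ∃ (r : ℕ) (R : Subgroup Y), r.Prime ∧ R.Normal ∧ R ≤ X ∧ IsPGroup r R ∧ (∃ g ∈ R, x * g ≠ g * x) ∧
      ∀ M : Subgroup Y, M.Normal → M < R → ∀ y : Y, ∀ m ∈ M, y * m = m * y := by
  classical
  have hne : ∃ N : Subgroup Y, N.Normal ∧ N ≤ X ∧ ∃ g ∈ N, x * g ≠ g * x := by
    refine ⟨X, h.nX, le_rfl, ?_⟩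
    by_contra hcon
    push Not at hcon
    exact hX (SR.eq_bot_of_comm h hcon)
  obtain ⟨N, ⟨hN, hNX, g₀, hg₀, hxg₀⟩, hmin⟩ :=
    WellFounded.has_min (wellFounded_lt (α := Subgroup Y)) {N : Subgroup Y | N.Normal ∧ N ≤ X ∧ ∃ g ∈ N, x * g ≠ g * x}
      hne
  -- a smaller normal subgroup is central
  have hcen : ∀ M : Subgroup Y, M.Normal → M < N → ∀ y : Y, ∀ m ∈ M, y * m = m * y := by
    intro M hM hMN
    have hxM : ∀ m ∈ M, x * m = m * x := by
      by_contra hcon
      push Not at hcon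
      exact hmin M ⟨hM, hMN.le.trans hNX, hcon⟩ hMN
    have h2 : Subgroup.centralizer (M : Set Y) = ⊤ :=
      SR.eq_top h (have := hM; Subgroup.normal_centralizer) (by
        rw [Subgroup.mem_centralizer_iff]
        intro m hm
        exact (hxM m hm).symm)
    intro y m hm
    have h3 : y ∈ Subgroup.centralizer (M : Set Y) := h2 ▸ Subgroup.mem_top y
    rw [Subgroup.mem_centralizer_iff] at h3
    exact (h3 m hm).symm
  have := hN
  have hxN : ∀ K : Subgroup N, K.Characteristic → K ≠ ⊤ → ∀ k ∈ K, ∀ y : Y, y * (k : Y) = k * y := by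
    intro K hK hKt k hk y
    have := hK
    refine hcen (K.map N.subtype) inferInstance (lt_of_le_of_ne (Subgroup.map_subtype_le K) ?_) y k ⟨k, hk, rfl⟩
    intro heq
    apply hKt
    rw [eq_top_iff]
    intro z _
    have h2 : (z : Y) ∈ K.map N.subtype := by rw [heq]; exact z.2
    obtain ⟨w, hw, hwz⟩ := h2
    rwa [← Subtype.ext (show (w : Y) = z from hwz)]
  have hsolN : Group.IsSolvable N := by
    have := hsol
    exact Group.isSolvable_of_isSolvable_injective (Subgroup.inclusion_injective hNX)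
  have hntN : Nontrivial N := by
    rw [Subgroup.nontrivial_iff_exists_ne_one]
    refine ⟨g₀, hg₀, ?_⟩
    rintro rfl
    simp at hxg₀
  have hnil : Group.IsNilpotent N := by
    have := hsolN
    have h2 := Group.IsSolvable.commutator_lt_top_of_nontrivial (G := N)
    have h3 : (Abelianization.of (G := N)).ker ≤ Subgroup.center N := by
      rw [Abelianization.ker_of]
      intro z hz
      rw [Subgroup.mem_center_iff]
      intro y
      exact Subtype.ext (hxN (commutator N) inferInstance h2.ne z hz y)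
    exact Subgroup.isNilpotent_of_ker_le_center _ h3
  by_cases hr : ∃ (r : ℕ) (_ : r.Prime), ∃ P : Sylow r N, (P : Subgroup N) = ⊤
  · obtain ⟨r, hr, P, hP⟩ := hr
    refine ⟨r, N, hr, hN, hNX, ?_, ⟨g₀, hg₀, hxg₀⟩, hcen⟩
    have h2 := P.isPGroup'
    rw [hP] at h2
    exact h2.of_equiv Subgroup.topEquiv
  · exfalso
    push Not at hr
    -- all Sylow subgroups are centralised by `x`
    have h2 : (Subgroup.centralizer ({x} : Set Y)).subgroupOf N = ⊤ := by
      rw [← Subgroup.index_eq_one]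
      by_contra h3
      obtain ⟨r, hrp, hrd⟩ := Nat.exists_prime_and_dvd h3
      have := Fact.mk hrp
      obtain ⟨P⟩ : Nonempty (Sylow r N) := inferInstance
      have hPn : (P : Subgroup N).Normal := by
        have := (Group.isNilpotent_of_finite_tfae (G := N)).out 0 3
        exact (this.mp hnil) r inferInstance P
      have hPc : (P : Subgroup N).Characteristic := P.characteristic_of_normal hPn
      have hle : (P : Subgroup N) ≤ (Subgroup.centralizer ({x} : Set Y)).subgroupOf N := by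
        intro z hz
        rw [Subgroup.mem_subgroupOf, Subgroup.mem_centralizer_iff]
        intro a ha
        rw [Set.mem_singleton_iff.mp ha]
        exact hxN P hPc (hr r hrp P) z hz x
      exact P.not_dvd_index (hrd.trans (Subgroup.index_dvd_of_le hle))
    have h3 : (⟨g₀, hg₀⟩ : N) ∈ (Subgroup.centralizer ({x} : Set Y)).subgroupOf N := h2 ▸ Subgroup.mem_top _
    rw [Subgroup.mem_subgroupOf, Subgroup.mem_centralizer_iff] at h3
    exact hxg₀ (h3 x rfl)

/-- **Solvable `X`**: a normal `r`-subgroup not centralised by `x`. -/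
theorem SR.exists_rgroup (h : SR (U := U) p s n X x B) (hsol : Group.IsSolvable X) (hX : X ≠ ⊥) :
    ∃ (r : ℕ) (R : Subgroup Y), r.Prime ∧ R.Normal ∧ R ≤ X ∧ IsPGroup r R ∧ ∃ g ∈ R, x * g ≠ g * x := by
  obtain ⟨r, R, h1, h2, h3, h4, h5, -⟩ := SR.exists_rgroup_min h hsol hX
  exact ⟨r, R, h1, h2, h3, h4, h5⟩

/-- nontrivial elements of `⟨x⟩` generate `⟨x⟩` -/
theorem SR.mem_zpowers (h : SR (U := U) p s n X x B) {a : Y} (ha : a ∈ Subgroup.zpowers x) (ha1 : a ≠ 1) :
    x ∈ Subgroup.zpowers a := by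
  have hp := Fact.mk h.hp
  have h1 : Nat.card (Subgroup.zpowers x) = p := by rw [Nat.card_zpowers, h.ord]
  have h2 : Subgroup.zpowers a ≤ Subgroup.zpowers x := Subgroup.zpowers_le.mpr ha
  have h3 : Nat.card (Subgroup.zpowers a) ∣ p := h1 ▸ Subgroup.card_dvd_of_le h2
  rcases (Nat.dvd_prime h.hp).mp h3 with h4 | h4
  · exfalso
    rw [Nat.card_zpowers, orderOf_eq_one_iff] at h4
    exact ha1 h4
  · have h5 : Subgroup.zpowers a = Subgroup.zpowers x :=
      Subgroup.eq_of_le_of_card_ge h2 (by rw [h1, h4])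
    rw [h5]
    exact Subgroup.mem_zpowers x

theorem SR.frobPair (h : SR (U := U) p s n X x B) {R : Subgroup Y} (hR : R.Normal)
    (hC : ∀ g ∈ R, x * g = g * x → g = 1) : Cfsg.Agent.H522.FrobPair R (Subgroup.zpowers x) := by
  refine ⟨fun a _ f hf => hR.conj_mem f hf a, fun a ha ha1 f hf hfa => hC f hf ?_⟩
  obtain ⟨k, hk⟩ := Subgroup.mem_zpowers_iff.mp (SR.mem_zpowers h ha ha1)
  have h2 : Commute f (a ^ k) := (show Commute f a from hfa.symm).zpow_right k
  rw [hk] at h2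
  exact h2.symm

/-- the multiplicative action -/
@[reducible] def actM (Y U : Type*) [Group Y] [AddCommGroup U] [DistribMulAction Y U] :
    MulDistribMulAction Y (Multiplicative U) where
  smul y v := Multiplicative.ofAdd (y • Multiplicative.toAdd v)
  one_smul v := one_smul Y (Multiplicative.toAdd v)
  mul_smul a b v := mul_smul a b (Multiplicative.toAdd v)
  smul_mul a v w := smul_add a (Multiplicative.toAdd v) (Multiplicative.toAdd w)
  smul_one a := smul_zero (A := U) a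

/-- **Frobenius action**: `|U| = |C_U(x)| ^ p`. -/
theorem SR.card_eq (h : SR (U := U) p s n X x B) {R : Subgroup Y} (hR : R.Normal) (hR1 : R ≠ ⊥)
    (hnil : Group.IsNilpotent R) (hC : ∀ g ∈ R, x * g = g * x → g = 1) :
    Nat.card U = Nat.card {u : U // x • u = u} ^ p := by
  have hs := Fact.mk h.hs
  let _ := actM Y U
  have h1 := Cfsg.Agent.H864.FrobOrder.card_eq_elementary (V := Multiplicative U) (SR.frobPair h hR hC) hnil s
    (fun v => by
      have := h.exp (Multiplicative.toAdd v)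
      exact this)
    (fun v hv => by
      have h2 : ∀ y ∈ R, y • (Multiplicative.toAdd v) = Multiplicative.toAdd v := fun y hy => hv y hy
      exact SR.fix_zero h hR hR1 h2)
  rw [Nat.card_zpowers, h.ord] at h1
  have h2 : Nat.card U = Nat.card (Multiplicative U) := rfl
  rw [h2, h1]
  congr 1
  refine Nat.card_congr
    { toFun := fun v => ⟨Multiplicative.toAdd v.1, v.2 x (Subgroup.mem_zpowers x)⟩
      invFun := fun u => ⟨Multiplicative.ofAdd u.1, fun a ha => ?_⟩
      left_inv := fun v => rfl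
      right_inv := fun u => rfl }
  obtain ⟨k, rfl⟩ := Subgroup.mem_zpowers_iff.mp ha
  have h3 : x ^ k ∈ MulAction.stabilizer Y (u.1) := Subgroup.zpow_mem _ (MulAction.mem_stabilizer_iff.mpr u.2) k
  exact h3

/-- **Frobenius action**: `n = (n - j) p`. -/
theorem SA.n_eq {j : ℕ} (h : SA (U := U) p s n j X x B) {R : Subgroup Y} (hR : R.Normal) (hR1 : R ≠ ⊥)
    (hnil : Group.IsNilpotent R) (hC : ∀ g ∈ R, x * g = g * x → g = 1) : n = (n - j) * p := by
  have h1 := SR.card_eq h.toSR hR hR1 hnil hC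
  rw [h.card, h.fix, ← pow_mul] at h1
  have h2 := Nat.pow_right_injective h.hs.two_le h1
  rw [mul_assoc] at h2
  omega

/-- the centraliser of `x` in a normal subgroup `R` -/
theorem SR.exists_cent (h : SR (U := U) p s n X x B) {R : Subgroup Y} (hR : R.Normal)
    (hx : ∃ g ∈ R, x * g ≠ g * x) : ∃ C : Subgroup Y, C ≤ R ∧ C ≠ R ∧ (∀ g, g ∈ C ↔ g ∈ R ∧ x * g = g * x) ∧
      Nat.card C ∣ Nat.card R ∧ Nat.card C < Nat.card R ∧ Nat.card R ≡ Nat.card C [MOD p] := by
  have hp := Fact.mk h.hp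
  let C : Subgroup Y := R ⊓ Subgroup.centralizer ({x} : Set Y)
  have hC : ∀ g, g ∈ C ↔ g ∈ R ∧ x * g = g * x := by
    intro g
    rw [Subgroup.mem_inf, Subgroup.mem_centralizer_iff]
    refine and_congr_right (fun _ => ⟨fun h2 => h2 x rfl, fun h2 a ha => ?_⟩)
    rw [Set.mem_singleton_iff.mp ha]
    exact h2
  have hCR : C ≤ R := inf_le_left
  have hne : C ≠ R := by
    intro h2
    obtain ⟨g, hg, hxg⟩ := hx
    rw [← h2] at hg
    exact hxg ((hC g).mp hg).2
  refine ⟨C, hCR, hne, hC, Subgroup.card_dvd_of_le hCR, ?_, ?_⟩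
  · refine lt_of_le_of_ne (Nat.le_of_dvd Nat.card_pos (Subgroup.card_dvd_of_le hCR)) (fun h2 => hne ?_)
    exact Subgroup.eq_of_le_of_card_ge hCR h2.ge
  · have := hR
    let _ : MulAction (Subgroup.zpowers x) R :=
      MulAction.compHom R ((MulAut.conjNormal (H := R)).comp (Subgroup.zpowers x).subtype)
    have hpg : IsPGroup p (Subgroup.zpowers x) := IsPGroup.of_card (n := 1) (by rw [Nat.card_zpowers, h.ord, pow_one])
    have h2 := hpg.card_modEq_card_fixedPoints R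
    have h3 : Nat.card (MulAction.fixedPoints (Subgroup.zpowers x) R) = Nat.card C := by
      refine Nat.card_congr
        { toFun := fun g => ⟨(g.1 : Y), (hC _).mpr ⟨g.1.2, ?_⟩⟩
          invFun := fun g => ⟨⟨g.1, hCR g.2⟩, ?_⟩
          left_inv := fun g => rfl
          right_inv := fun g => rfl }
      · have h4 := congrArg Subtype.val (g.2 ⟨x, Subgroup.mem_zpowers x⟩)
        have h5 : x * (g.1 : Y) * x⁻¹ = g.1 := h4
        exact mul_inv_eq_iff_eq_mul.mp h5
      · rintro ⟨a, ha⟩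
        apply Subtype.ext
        change a * (g.1 : Y) * a⁻¹ = g.1
        obtain ⟨k, rfl⟩ := Subgroup.mem_zpowers_iff.mp ha
        have h4 : Commute (g.1) x := (((hC g.1).mp g.2).2).symm
        rw [← (h4.zpow_right k).eq, mul_inv_cancel_right]
    rw [h3] at h2
    exact h2

end Cfsg.Agent.H461.GW
end

-- part: H461/GW/Small3
section
set_option linter.all false
open scoped Cfsg.Agent.FastGrp

/-!
# TEAM GW: `[S3]` small3

`SA 3 2 n j X x B`, `n ≤ 5` implies `X = ⊥`.
-/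

set_option autoImplicit false

namespace Cfsg.Agent.H461.GW

open Cfsg.Agent.H662.GW

universe u

/-- the orders of the Suzuki groups do not divide `2 ^ 25 * 5 ^ 2 * 7 * 11 * 17 * 31` -/
theorem suz_num {m : ℕ} (hm : 1 ≤ m)
    (h : (2 ^ (2 * m + 1)) ^ 2 * ((2 ^ (2 * m + 1)) ^ 2 + 1) * (2 ^ (2 * m + 1) - 1) ∣ 2 ^ 25 * 1014475) : False := by
  have h1 : (2 ^ (2 * m + 1)) ^ 2 ∣ 2 ^ 25 * 1014475 := dvd_trans (Dvd.intro _ (mul_assoc _ _ _).symm) h
  have h2 : (2 ^ (2 * m + 1)) ^ 2 ∣ 2 ^ 25 := by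
    refine Nat.Coprime.dvd_of_dvd_mul_right ?_ h1
    rw [← pow_mul]
    exact Nat.Coprime.pow_left _ (by norm_num)
  rw [← pow_mul, Nat.pow_dvd_pow_iff_le_right (by norm_num)] at h2
  have h3 : m ≤ 5 := by omega
  have h4 : ((2 ^ (2 * m + 1)) ^ 2 + 1) ∣ 2 ^ 25 * 1014475 := by
    refine dvd_trans ?_ h
    exact ⟨(2 ^ (2 * m + 1)) ^ 2 * (2 ^ (2 * m + 1) - 1), by ring⟩
  interval_cases m <;> norm_num at h4

theorem solvable_aux (k : ℕ) : ∀ (G : Type u) [Group G] [Finite G], Nat.card G ≤ k → ¬ 3 ∣ Nat.card G →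
    Nat.card G ∣ 2 ^ 25 * 1014475 → Group.IsSolvable G := by
  induction k with
  | zero =>
    intro G _ _ h0
    exact absurd (Nat.card_pos (α := G)) (by omega)
  | succ k ih =>
    intro G _ _ hk h3 hd
    by_cases hs : IsSimpleGroup G
    · by_cases hc : ∃ a b : G, a * b ≠ b * a
      · obtain ⟨-, m, hm, hcard⟩ := Cfsg.Agent.S0336.result hc h3
        exact (suz_num hm (hcard ▸ hd)).elim
      · push Not at hc
        exact Group.isSolvable_of_comm hc
    · by_cases ht : Subsingleton G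
      · exact Group.isSolvable_of_comm (fun a b => Subsingleton.elim _ _)
      · have hnt : Nontrivial G := not_subsingleton_iff_nontrivial.mp ht
        have hex : ∃ N : Subgroup G, N.Normal ∧ N ≠ ⊥ ∧ N ≠ ⊤ := by
          by_contra hcon
          push Not at hcon
          exact hs ⟨fun N hN => or_iff_not_imp_left.mpr (hcon N hN)⟩
        obtain ⟨N, hN, hN1, hN2⟩ := hex
        have hci := Subgroup.card_mul_index N
        have hNpos : 1 < Nat.card N := (Subgroup.one_lt_card_iff_ne_bot N).mpr hN1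
        have hi1 : N.index ≠ 1 := fun h => hN2 (Subgroup.index_eq_one.mp h)
        have hipos : N.index ≠ 0 := Subgroup.index_ne_zero_of_finite
        have hlt1 : Nat.card N < Nat.card G := by
          have : 2 ≤ N.index := by omega
          nlinarith
        have hlt2 : Nat.card (G ⧸ N) < Nat.card G := by
          change N.index < _
          have : 1 ≤ N.index := by omega
          nlinarith only [hci, hNpos, hlt1]
        have hs1 : Group.IsSolvable N := ih N (by omega) (fun h => h3 (h.trans (Subgroup.card_subgroup_dvd_card N)))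
          ((Subgroup.card_subgroup_dvd_card N).trans hd)
        have hdq : Nat.card (G ⧸ N) ∣ Nat.card G := Subgroup.index_dvd_card N
        have hs2 : Group.IsSolvable (G ⧸ N) := ih (G ⧸ N) (by omega) (fun h => h3 (h.trans hdq)) (hdq.trans hd)
        exact Group.isSolvable_of_ker_le_range N.subtype (QuotientGroup.mk' N) (by simp)

theorem order_dvd {n c : ℕ} (hn : n ≤ 5) (h3 : ¬ 3 ∣ c)
    (hc : c ∣ 2 ^ (n ^ 2) * ∏ i ∈ Finset.range n, (2 ^ (2 * (i + 1)) - 1)) : c ∣ 2 ^ 25 * 1014475 := by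
  have h1 : c ∣ 3 ^ 6 * (2 ^ 25 * 1014475) := by
    refine hc.trans ?_
    interval_cases n <;> simp only [Finset.prod_range_succ, _root_.ne_eq, _root_.OfNat.ofNat_ne_zero, _root_.not_false_eq_true, _root_.zero_pow, _root_.pow_zero, _root_.Finset.range_zero, _root_.Finset.prod_empty, _root_.mul_one, _root_.Nat.reducePow, _root_.Nat.reduceMul, _root_.isUnit_iff_eq_one, _root_.IsUnit.dvd, _root_.one_pow, _root_.pow_one, _root_.Finset.range_one, _root_.Finset.prod_singleton, _root_.zero_add, _root_.Nat.add_one_sub_one, _root_.Nat.reduceDvd, _root_.Nat.reduceAdd, _root_.dvd_refl]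
  exact Nat.Coprime.dvd_of_dvd_mul_left
    (Nat.Coprime.pow_right 6 ((Nat.Prime.coprime_iff_not_dvd Nat.prime_three).mpr h3).symm) h1

theorem prime_pow_cases {r k : ℕ} (hr : r.Prime) (hr2 : r ≠ 2) (hk : 1 ≤ k) (hd : r ^ k ∣ 2 ^ 25 * 1014475) :
    r ^ k = 5 ∨ r ^ k = 25 ∨ r ^ k = 7 ∨ r ^ k = 11 ∨ r ^ k = 17 ∨ r ^ k = 31 := by
  have h1 : r ^ k ∣ 1014475 := by
    refine Nat.Coprime.dvd_of_dvd_mul_left (Nat.Coprime.pow 25 k ?_).symm hd
    exact ((Nat.coprime_primes Nat.prime_two hr).mpr (Ne.symm hr2))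
  have h2 : r ∣ 5 * 5 * 7 * 11 * 17 * 31 := (dvd_pow_self r (by omega)).trans h1
  have h3 : r = 5 ∨ r = 7 ∨ r = 11 ∨ r = 17 ∨ r = 31 := by
    simp only [hr.dvd_mul] at h2
    have e : ∀ q : ℕ, q.Prime → r ∣ q → r = q := fun q hq h => (Nat.prime_dvd_prime_iff_eq hr hq).mp h
    rcases h2 with ((((h | h) | h) | h) | h) | h
    · exact Or.inl (e 5 (by norm_num) h)
    · exact Or.inl (e 5 (by norm_num) h)
    · exact Or.inr (Or.inl (e 7 (by norm_num) h))
    · exact Or.inr (Or.inr (Or.inl (e 11 (by norm_num) h)))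
    · exact Or.inr (Or.inr (Or.inr (Or.inl (e 17 (by norm_num) h))))
    · exact Or.inr (Or.inr (Or.inr (Or.inr (e 31 (by norm_num) h))))
  have h4 : k ≤ 2 := by
    by_contra h4
    have h5 : r ^ 3 ∣ 1014475 := (pow_dvd_pow r (by omega)).trans h1
    rcases h3 with rfl | rfl | rfl | rfl | rfl <;> norm_num at h5
  interval_cases k <;> rcases h3 with rfl | rfl | rfl | rfl | rfl <;> first | (norm_num; done) | (exfalso; norm_num at h1)

section ring
variable {R : Type*} [Ring R]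

theorem f_sq (h2 : (2 : R) = 0) (a : R) : (a ^ 2) ^ 3 + a ^ 2 + 1 = (a ^ 3 + a + 1) * (a ^ 3 + a + 1) := by
  have h : (a ^ 3 + a + 1) * (a ^ 3 + a + 1) = (a ^ 2) ^ 3 + a ^ 2 + 1 + 2 * (a ^ 4 + a ^ 3 + a) := by
    noncomm_ring
  rw [h, h2, zero_mul, add_zero]

theorem fg (h2 : (2 : R) = 0) (a : R) :
    a * ((a ^ 3 + a + 1) * (a ^ 3 + a ^ 2 + 1)) = (a ^ 3 + a + 1) * (a ^ 3 + a ^ 2 + 1) + (a ^ 7 - 1) := by
  have h : a * ((a ^ 3 + a + 1) * (a ^ 3 + a ^ 2 + 1)) =
      (a ^ 3 + a + 1) * (a ^ 3 + a ^ 2 + 1) + (a ^ 7 - 1) + 2 * (a ^ 4 - a ^ 3) := by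
    noncomm_ring
  rw [h, h2, zero_mul, add_zero]

end ring

section seven
variable {n : ℕ} {Y U : Type*} [Group Y] [Finite Y] [AddCommGroup U] [Finite U]
    [DistribMulAction Y U] {X : Subgroup Y} {x : Y} {B : U → U → ZMod 2}

/-- every element acts on a normal subgroup of order `7` as a power `1, 2, 4` -/
theorem conj_seven (h : SR (U := U) 3 2 n X x B) {R : Subgroup Y} (hR : R.Normal) (h7 : Nat.card R = 7) {g : Y}
    (hg : g ∈ R) (hg1 : g ≠ 1) (y : Y) : ∃ k, (k = 1 ∨ k = 2 ∨ k = 4) ∧ y * g * y⁻¹ = g ^ k := by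
  classical
  have := Fact.mk (show (7 : ℕ).Prime by norm_num)
  have hcyc : IsCyclic R := isCyclic_of_prime_card h7
  have hord : orderOf g = 7 := by
    have h1 : orderOf g ∣ 7 := h7 ▸ Subgroup.orderOf_dvd_natCard R hg
    rcases (Nat.dvd_prime (by norm_num)).mp h1 with h2 | h2
    · exact absurd (orderOf_eq_one_iff.mp h2) hg1
    · exact h2
  have hzp : Subgroup.zpowers g = R :=
    Subgroup.eq_of_le_of_card_ge (Subgroup.zpowers_le.mpr hg) (by rw [Nat.card_zpowers, hord, h7])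
  let ψ : Y →* (ZMod (Nat.card R))ˣ := (IsCyclic.mulAutMulEquiv R).toMonoidHom.comp (MulAut.conjNormal (H := R))
  have hk : ((powMonoidHom 3).comp ψ).ker = ⊤ := by
    refine SR.eq_top h inferInstance ?_
    rw [MonoidHom.mem_ker, MonoidHom.comp_apply, powMonoidHom_apply, ← map_pow]
    have h3 : x ^ 3 = 1 := by rw [← h.ord]; exact pow_orderOf_eq_one x
    rw [h3, map_one]
  have hy : y ∈ ((powMonoidHom 3).comp ψ).ker := hk ▸ Subgroup.mem_top y
  rw [MonoidHom.mem_ker, MonoidHom.comp_apply, powMonoidHom_apply, ← map_pow] at hy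
  have hy3 : MulAut.conjNormal (H := R) (y ^ 3) = 1 :=
    (IsCyclic.mulAutMulEquiv R).injective (by rw [map_one]; exact hy)
  have hy4 : y ^ 3 * g * (y ^ 3)⁻¹ = g := by
    have h2 := congrArg Subtype.val (DFunLike.congr_fun hy3 ⟨g, hg⟩)
    exact h2
  have hyg : y * g * y⁻¹ ∈ Subgroup.zpowers g := by rw [hzp]; exact hR.conj_mem g hg y
  rw [mem_zpowers_iff_mem_range_orderOf, Finset.mem_image] at hyg
  obtain ⟨k, hk7, hk⟩ := hyg
  rw [Finset.mem_range, hord] at hk7
  refine ⟨k, ?_, hk.symm⟩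
  have hc : ∀ a : ℕ, y * g ^ a * y⁻¹ = g ^ (k * a) := by
    intro a
    rw [pow_mul, hk]
    exact conj_pow.symm
  have h5 : y ^ 3 * g * (y ^ 3)⁻¹ = g ^ (k * (k * k)) := by
    calc y ^ 3 * g * (y ^ 3)⁻¹ = y * (y * (y * g * y⁻¹) * y⁻¹) * y⁻¹ := by
          simp only [pow_three, mul_inv_rev, mul_assoc]
      _ = g ^ (k * (k * k)) := by rw [← hk, hc, hc]
  have h6 : g ^ (k * (k * k)) = g ^ 1 := by rw [← h5, hy4, pow_one]
  rw [pow_eq_pow_iff_modEq, hord] at h6
  interval_cases k <;> first | (simp; done) | (exfalso; revert h6; decide)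

theorem no_seven {j : ℕ} (h : SA (U := U) 3 2 n j X x B) {R : Subgroup Y} (hR : R.Normal) (h7 : Nat.card R = 7) :
    False := by
  have hR1 : R ≠ ⊥ := by
    rintro rfl
    rw [Subgroup.card_bot] at h7
    omega
  obtain ⟨⟨g, hg⟩, hg0⟩ := Subgroup.ne_bot_iff_exists_ne_one.mp hR1
  have hg1 : g ≠ 1 := fun h => hg0 (Subtype.ext h)
  have hg7 : g ^ 7 = 1 := by
    have h1 : orderOf g ∣ 7 := h7 ▸ Subgroup.orderOf_dvd_natCard R hg
    exact orderOf_dvd_iff_pow_eq_one.mp h1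
  have hgen : ∀ y ∈ R, y ∈ Subgroup.zpowers g := by
    have := Fact.mk (show (7 : ℕ).Prime by norm_num)
    intro y hy
    have hord : orderOf g = 7 := by
      have h1 : orderOf g ∣ 7 := h7 ▸ Subgroup.orderOf_dvd_natCard R hg
      rcases (Nat.dvd_prime (by norm_num)).mp h1 with h2 | h2
      · exact absurd (orderOf_eq_one_iff.mp h2) hg1
      · exact h2
    have hzp : Subgroup.zpowers g = R :=
      Subgroup.eq_of_le_of_card_ge (Subgroup.zpowers_le.mpr hg) (by rw [Nat.card_zpowers, hord, h7])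
    rw [hzp]
    exact hy
  -- fixed vectors of `g`
  have hfix : ∀ u : U, g • u = u → u = 0 := by
    intro u hu
    refine SR.fix_zero h.toSR hR hR1 (fun y hy => ?_)
    obtain ⟨k, rfl⟩ := Subgroup.mem_zpowers_iff.mp (hgen y hy)
    have h3 : g ^ k ∈ MulAction.stabilizer Y u := Subgroup.zpow_mem _ (MulAction.mem_stabilizer_iff.mpr hu) k
    exact h3
  have h2 : (2 : AddMonoid.End U) = 0 := by
    ext u
    have h3 := h.exp u
    exact h3
  let D : Y →* AddMonoid.End U := DistribMulAction.toAddMonoidEnd Y U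
  have hD : ∀ (y : Y) (u : U), D y u = y • u := fun _ _ => rfl
  let f : AddMonoid.End U → AddMonoid.End U := fun a => a ^ 3 + a + 1
  let f' : AddMonoid.End U → AddMonoid.End U := fun a => a ^ 3 + a ^ 2 + 1
  have hff : ∀ u : U, f (D g) (f' (D g) u) = 0 := by
    intro u
    apply hfix
    rw [← hD]
    have h3 := DFunLike.congr_fun (fg h2 (D g)) u
    rw [show (D g) ^ 7 = 1 by rw [← map_pow, hg7, map_one], sub_self, add_zero] at h3
    exact h3
  -- kernels of `F (g)` are `Y`-invariant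
  have inv : ∀ F : AddMonoid.End U → AddMonoid.End U, (∀ a b c, SemiconjBy a b c → SemiconjBy a (F b) (F c)) →
      (∀ a, F (a ^ 2) = F a * F a) → (∀ u, F (D g) u = 0 → u = 0) ∨ (∀ u, F (D g) u = 0) := by
    intro F hF hF2
    let W : AddSubgroup U := AddMonoidHom.ker (F (D g) : U →+ U)
    have hW : ∀ w, w ∈ W ↔ F (D g) w = 0 := fun w => AddMonoidHom.mem_ker
    have hWi : ∀ y : Y, ∀ w ∈ W, y • w ∈ W := by
      intro y w hw
      obtain ⟨k, hk, hyk⟩ := conj_seven h.toSR hR h7 hg hg1 y⁻¹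
      rw [inv_inv] at hyk
      have hs : SemiconjBy (D y) ((D g) ^ k) (D g) := by
        change D y * (D g) ^ k = D g * D y
        rw [← map_pow, ← hyk, ← map_mul, ← map_mul]
        congr 1
        group
      have h3 := hF _ _ _ hs
      have h4 : F (D g) (D y w) = D y (F ((D g) ^ k) w) := (DFunLike.congr_fun h3.eq w).symm
      rw [hW] at hw ⊢
      have h5 : F ((D g) ^ 2) w = 0 := by
        rw [hF2]
        change F (D g) (F (D g) w) = 0
        rw [hw, map_zero]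
      have h6 : F ((D g) ^ 4) w = 0 := by
        rw [show (D g) ^ 4 = ((D g) ^ 2) ^ 2 by rw [← pow_mul], hF2]
        change F ((D g) ^ 2) (F ((D g) ^ 2) w) = 0
        rw [h5, map_zero]
      rw [← hD, h4]
      rcases hk with rfl | rfl | rfl
      · rw [pow_one, hw, map_zero]
      · rw [h5, map_zero]
      · rw [h6, map_zero]
    rcases h.irr W hWi with h3 | h3
    · left
      intro u hu
      have h4 : u ∈ W := (hW u).mpr hu
      rw [h3] at h4
      exact AddSubgroup.mem_bot.mp h4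
    · right
      intro u
      exact (hW u).mp (h3 ▸ AddSubgroup.mem_top u)
  have sc1 : ∀ a b c : AddMonoid.End U, SemiconjBy a b c → SemiconjBy a (f b) (f c) := fun a b c hs =>
    ((hs.pow_right 3).add_right hs).add_right (SemiconjBy.one_right a)
  have hB0 : ∀ v : U, B v 0 = 0 := by
    intro v
    have h3 := h.addr v 0 0
    rw [add_zero] at h3
    exact left_eq_add.mp h3
  have d1 : (∀ u, f (D g) u = 0) → ∀ u, f' (D g) u = 0 := by
    intro h3 v
    apply h.nd
    intro u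
    obtain ⟨w, rfl⟩ : ∃ w, u = g ^ 3 • w := ⟨(g ^ 3)⁻¹ • u, by rw [smul_inv_smul]⟩
    have e1 : f' (D g) v = g ^ 3 • v + g ^ 2 • v + v := by
      change ((D g) ^ 3) v + ((D g) ^ 2) v + v = _
      rw [← map_pow, ← map_pow, hD, hD]
    have e2 : f (D g) w = g ^ 3 • w + g • w + w := by
      change ((D g) ^ 3) w + (D g) w + w = _
      rw [← map_pow, hD, hD]
    have e3 : g ^ 3 • w = g ^ 2 • g • w := by rw [← mul_smul, ← pow_succ]
    have e4 := h3 w
    rw [e2] at e4
    rw [e1, h.addl, h.addl, h.inv]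
    nth_rw 1 [e3]
    rw [h.inv, ← h.addr, ← h.addr, show w + g • w + g ^ 3 • w = g ^ 3 • w + g • w + w by abel, e4, hB0]
  have d2 : (∀ u, f' (D g) u = 0) → ∀ u, f (D g) u = 0 := by
    intro h3 v
    apply h.nd
    intro u
    obtain ⟨w, rfl⟩ : ∃ w, u = g ^ 3 • w := ⟨(g ^ 3)⁻¹ • u, by rw [smul_inv_smul]⟩
    have e1 : f (D g) v = g ^ 3 • v + g • v + v := by
      change ((D g) ^ 3) v + (D g) v + v = _
      rw [← map_pow, hD, hD]
    have e2 : f' (D g) w = g ^ 3 • w + g ^ 2 • w + w := by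
      change ((D g) ^ 3) w + ((D g) ^ 2) w + w = _
      rw [← map_pow, ← map_pow, hD, hD]
    have e3 : g ^ 3 • w = g • g ^ 2 • w := by rw [← mul_smul, ← pow_succ']
    have e4 := h3 w
    rw [e2] at e4
    rw [e1, h.addl, h.addl, h.inv]
    nth_rw 1 [e3]
    rw [h.inv, ← h.addr, ← h.addr, show w + g ^ 2 • w + g ^ 3 • w = g ^ 3 • w + g ^ 2 • w + w by abel, e4, hB0]
  have hboth : (∀ u, f (D g) u = 0) ∧ ∀ u, f' (D g) u = 0 := by
    rcases inv f sc1 (f_sq h2) with h3 | h3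
    · have h4 : ∀ u, f' (D g) u = 0 := fun u => h3 _ (hff u)
      exact ⟨d2 h4, h4⟩
    · exact ⟨h3, d1 h3⟩
  obtain ⟨h3, h4⟩ := hboth
  have hall : ∀ u : U, u = 0 := by
    intro u
    have e1 : f (D g) u = g ^ 3 • u + g • u + u := by
      change ((D g) ^ 3) u + (D g) u + u = _
      rw [← map_pow, hD, hD]
    have e2 : f' (D g) u = g ^ 3 • u + g ^ 2 • u + u := by
      change ((D g) ^ 3) u + ((D g) ^ 2) u + u = _
      rw [← map_pow, ← map_pow, hD, hD]
    have e3 : g ^ 3 • u + g • u + u = g ^ 3 • u + g ^ 2 • u + u := by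
      rw [← e1, ← e2, h3 u, h4 u]
    have e4 : g • u = g • g • u := by
      rw [← mul_smul, ← pow_two]
      exact add_left_cancel (add_right_cancel e3)
    exact hfix u (smul_left_cancel g e4).symm
  have hnt := SR.nontrivial h.toSR
  obtain ⟨a, b, hab⟩ := hnt
  exact hab ((hall a).trans (hall b).symm)

end seven

section main
variable {n j : ℕ} {Y U : Type*} [Group Y] [Finite Y] [AddCommGroup U] [Finite U]
    [DistribMulAction Y U] {X : Subgroup Y} {x : Y} {B : U → U → ZMod 2}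

theorem small3_of (h : SA (U := U) 3 2 n j X x B) (hn : n ≤ 5)
    (hcard : Nat.card X ∣ 2 ^ (n ^ 2) * ∏ i ∈ Finset.range n, (2 ^ (2 * (i + 1)) - 1)) : X = ⊥ := by
  by_contra hX
  have hd := order_dvd hn h.cop hcard
  have hsol := solvable_aux _ X le_rfl h.cop hd
  obtain ⟨r, R, hr, hR, hRX, hpR, hxR⟩ := SR.exists_rgroup h.toSR hsol hX
  have hr2 : r ≠ 2 := by
    rintro rfl
    have h1 := SR.core_bot h.toSR hR hpR
    subst h1
    obtain ⟨g, hg, hxg⟩ := hxR
    rw [Subgroup.mem_bot] at hg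
    subst hg
    simp at hxg
  have hR1 : R ≠ ⊥ := by
    rintro rfl
    obtain ⟨g, hg, hxg⟩ := hxR
    rw [Subgroup.mem_bot] at hg
    subst hg
    simp at hxg
  have := Fact.mk hr
  obtain ⟨k, hk⟩ := IsPGroup.iff_card.mp hpR
  have hk1 : 1 ≤ k := by
    by_contra hk1
    have hk0 : k = 0 := by omega
    rw [hk0, pow_zero] at hk
    exact hR1 (Subgroup.card_eq_one.mp hk)
  have hRd : Nat.card R ∣ Nat.card X := Subgroup.card_dvd_of_le hRX
  have hcases := prime_pow_cases hr hr2 hk1 (hk ▸ hRd.trans hd)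
  rw [← hk] at hcases
  obtain ⟨C, hCR, hne, hC, hCd, hClt, hmod⟩ := SR.exists_cent h.toSR hR hxR
  have hpos : 0 < Nat.card C := Nat.card_pos
  have hC1 : Nat.card C = 1 ∧ (Nat.card R = 25 ∨ Nat.card R = 7 ∨ Nat.card R = 31) := by
    unfold Nat.ModEq at hmod
    generalize Nat.card C = c at *
    rcases hcases with h1 | h1 | h1 | h1 | h1 | h1 <;> rw [h1] at hCd hClt hmod ⊢ <;>
      interval_cases c <;> (clear * - hmod hCd; omega)
  obtain ⟨hC1, hR3⟩ := hC1
  have hCt : ∀ g ∈ R, x * g = g * x → g = 1 := by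
    intro g hg hxg
    have h1 : g ∈ C := (hC g).mpr ⟨hg, hxg⟩
    rw [Subgroup.card_eq_one.mp hC1] at h1
    exact Subgroup.mem_bot.mp h1
  have hnil : Group.IsNilpotent R := hpR.isNilpotent
  have hn3 := SA.n_eq h hR hR1 hnil hCt
  have hn1 := h.hn
  have hn4 : n = 3 := by omega
  subst hn4
  have h7 : Nat.card R = 7 := by
    rcases hR3 with h1 | h1 | h1
    · exfalso
      have h2 := hRd.trans hcard
      rw [h1] at h2
      simp only [Finset.prod_range_succ, _root_.Nat.reducePow, _root_.Finset.range_one, _root_.Finset.prod_singleton, _root_.zero_add, _root_.mul_one, _root_.Nat.add_one_sub_one, _root_.Nat.reduceAdd, _root_.Nat.reduceMul, _root_.Nat.reduceDvd] at h2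
    · exact h1
    · exfalso
      have h2 := hRd.trans hcard
      rw [h1] at h2
      simp only [Finset.prod_range_succ, _root_.Nat.reducePow, _root_.Finset.range_one, _root_.Finset.prod_singleton, _root_.zero_add, _root_.mul_one, _root_.Nat.add_one_sub_one, _root_.Nat.reduceAdd, _root_.Nat.reduceMul, _root_.Nat.reduceDvd] at h2
  exact no_seven h hR h7

/-- **[S3]** -/
theorem small3 (h : SA (U := U) 3 2 n j X x B) (hn : n ≤ 5) : X = ⊥ :=
  small3_of h hn (Cfsg.Agent.H727.GW.SR.card_dvd h.toSR)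

end main

end Cfsg.Agent.H461.GW
end
end
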